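import Mathlib

/-!
A finite scheme over an algebraically closed field without nonzero tangent vectors is reduced, so its
degree is its number of points.
-/

set_option autoImplicit false
set_option linter.style.haveILetI false

universe u

open CategoryTheory CategoryTheory.Limits AlgebraicGeometry

noncomputable section

namespace Groth.Agent.FinPts

variable {K : Type u} [Field K] [IsAlgClosed K]

/-- Without nonzero tangent vectors a finite algebra is reduced. -/
theorem isReduced_of_derivation {B : Type u} [CommRing B] [Algebra K B] [Module.Finite K B]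
    (h : ∀ ψ : B →ₐ[K] DualNumber K, ∀ b, (ψ b).snd = 0) : IsReduced B := by
  haveI : IsNoetherianRing B := isNoetherianRing_iff.2 (isNoetherian_of_tower K inferInstance)
  refine ⟨fun x hx => ?_⟩
  have hann : Ideal.span {y : B | y * x = 0} = ⊤ := by
    by_contra hne
    obtain ⟨m, hm, hle⟩ := Ideal.exists_le_maximal _ hne
    haveI := hm
    have hbij : Function.Bijective (algebraMap K (B ⧸ m)) := IsAlgClosed.algebraMap_bijective_of_isIntegral
    let χ : B →ₐ[K] K := ((AlgEquiv.ofBijective (Algebra.ofId K (B ⧸ m)) hbij).symm.toAlgHom).comp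
      (Ideal.Quotient.mkₐ K m)
    have hχ : ∀ b, χ b = 0 ↔ b ∈ m := fun b => by
      change (AlgEquiv.ofBijective (Algebra.ofId K (B ⧸ m)) hbij).symm (Ideal.Quotient.mk m b) = 0 ↔ _
      rw [EmbeddingLike.map_eq_zero_iff, Ideal.Quotient.eq_zero_iff_mem]
    have hres : ∀ b, b - algebraMap K B (χ b) ∈ m := fun b =>
      (hχ _).1 (by rw [map_sub, χ.commutes]; simp)
    have hsq : m * m = m := by
      refine le_antisymm Ideal.mul_le_left fun b hb => ?_
      by_contra hb'
      let W : Submodule K B := Submodule.span K {(1 : B)} ⊔ (m * m).restrictScalars K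
      have hbW : b ∉ W := by
        rw [Submodule.mem_sup]
        rintro ⟨y, hy, z, hz, rfl⟩
        obtain ⟨c, rfl⟩ := Submodule.mem_span_singleton.1 hy
        have hz' : χ z = 0 := (hχ z).2 (Ideal.mul_le_left hz)
        have hb0 : χ (c • (1 : B) + z) = 0 := (hχ _).2 hb
        rw [map_add, map_smul, map_one, hz', add_zero, smul_eq_mul, mul_one] at hb0
        have hz'' : z ∈ m * m := hz
        rw [hb0, zero_smul, zero_add] at hb'
        exact hb' hz''
      obtain ⟨φ, hφb, hφW⟩ := Submodule.exists_dual_map_eq_bot_of_notMem hbW inferInstance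
      have hW : ∀ w ∈ W, φ w = 0 := fun w hw => by
        have : φ w ∈ Submodule.map φ W := ⟨w, hw, rfl⟩
        rw [hφW] at this
        exact this
      have h1 : φ 1 = 0 := hW _ (le_sup_left (b := (m * m).restrictScalars K) (Submodule.mem_span_singleton_self 1))
      have hmul : ∀ x y, φ (x * y) = χ x * φ y + χ y * φ x := fun x y => by
        have h2 := hW ((x - algebraMap K B (χ x)) * (y - algebraMap K B (χ y)))
          (le_sup_right (a := Submodule.span K {(1 : B)}) (Ideal.mul_mem_mul (hres x) (hres y)))
        have e : (x - algebraMap K B (χ x)) * (y - algebraMap K B (χ y)) =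
            x * y - χ x • y - χ y • x + (χ x * χ y) • (1 : B) := by
          simp only [Algebra.smul_def, map_mul]; ring
        rw [e, map_add, map_sub, map_sub, map_smul, map_smul, map_smul, h1, smul_zero, add_zero,
          smul_eq_mul, smul_eq_mul] at h2
        linear_combination h2
      let ψ : B →ₐ[K] DualNumber K :=
        { toFun := fun x => (χ x, φ x)
          map_one' := TrivSqZeroExt.ext (map_one χ) h1
          map_mul' := fun x y => TrivSqZeroExt.ext (map_mul χ x y) (by
            change φ (x * y) = χ x • φ y + MulOpposite.op (χ y) • φ x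
            rw [hmul, op_smul_eq_smul, smul_eq_mul, smul_eq_mul])
          map_zero' := TrivSqZeroExt.ext (map_zero χ) (map_zero φ)
          map_add' := fun x y => TrivSqZeroExt.ext (map_add χ x y) (map_add φ x y)
          commutes' := fun c => TrivSqZeroExt.ext (χ.commutes c) (by
            change φ (algebraMap K B c) = 0
            rw [Algebra.algebraMap_eq_smul_one, map_smul, h1, smul_zero]) }
      exact hφb (h ψ b)
    obtain ⟨e, he, hme⟩ := (Ideal.isIdempotentElem_iff_of_fg m (IsNoetherian.noetherian m)).1 hsq
    have hxm : x ∈ m := by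
      obtain ⟨n, hn⟩ := hx
      exact hm.isPrime.mem_of_pow_mem n (by rw [hn]; exact zero_mem _)
    obtain ⟨y, hy⟩ : ∃ y, y * e = x := Ideal.mem_span_singleton'.1 (by rw [← Ideal.submodule_span_eq, ← hme]; exact hxm)
    have h1e : (1 - e) ∈ m := hle (Ideal.subset_span (by
      show (1 - e) * x = 0
      rw [← hy, mul_left_comm, sub_mul, one_mul, he.eq, sub_self, mul_zero]))
    have he' : e ∈ m := hme ▸ Ideal.mem_span_singleton_self e
    exact hm.ne_top ((Ideal.eq_top_iff_one _).2 (by simpa using add_mem h1e he'))
  have h1 : (1 : B) ∈ Ideal.span {y : B | y * x = 0} := hann ▸ Submodule.mem_top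
  have h2 : Ideal.span {y : B | y * x = 0} ≤ (⊥ : Ideal B).colon {x} :=
    Ideal.span_le.2 fun y hy => by simpa [Submodule.mem_colon_singleton] using hy
  simpa [Submodule.mem_colon_singleton] using h2 h1

/-- The dimension of a reduced finite algebra is its number of primes. -/
theorem finrank_eq_card_of_isReduced (B : Type u) [CommRing B] [Algebra K B] [Module.Finite K B] [IsReduced B] :
    Module.finrank K B = Nat.card (PrimeSpectrum B) := by
  haveI : IsArtinianRing B := IsArtinianRing.of_finite K B
  let e : B ≃ₗ[K] ((m : MaximalSpectrum B) → B ⧸ m.asIdeal) :=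
    LinearEquiv.ofBijective (LinearMap.pi fun m : MaximalSpectrum B => (Ideal.Quotient.mkₐ K m.asIdeal).toLinearMap)
      (IsArtinianRing.equivPi B).bijective
  haveI : Fintype (MaximalSpectrum B) := Fintype.ofFinite _
  have h1 : ∀ m : MaximalSpectrum B, Module.finrank K (B ⧸ m.asIdeal) = 1 := fun m => by
    haveI := m.isMaximal
    have hbij : Function.Bijective (algebraMap K (B ⧸ m.asIdeal)) := IsAlgClosed.algebraMap_bijective_of_isIntegral
    rw [← (AlgEquiv.ofBijective (Algebra.ofId K (B ⧸ m.asIdeal)) hbij).toLinearEquiv.finrank_eq, Module.finrank_self]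
  rw [e.finrank_eq, Module.finrank_pi_fintype, Finset.sum_congr rfl fun m _ => h1 m, Finset.sum_const,
    Finset.card_univ, smul_eq_mul, mul_one, ← Nat.card_eq_fintype_card]
  exact Nat.card_congr (IsArtinianRing.primeSpectrumEquivMaximalSpectrum (R := B)).symm

/-- The inclusion of the base in the dual numbers, on spectra. -/
abbrev dualStr (K : Type u) [Field K] : Spec (CommRingCat.of (DualNumber K)) ⟶ Spec (CommRingCat.of K) :=
  Spec.map (CommRingCat.ofHom (algebraMap K (DualNumber K)))

/-- The closed point of the spectrum of the dual numbers. -/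
abbrev dualPt (K : Type u) [Field K] : Spec (CommRingCat.of K) ⟶ Spec (CommRingCat.of (DualNumber K)) :=
  Spec.map (CommRingCat.ofHom (TrivSqZeroExt.fstHom K K K).toRingHom)

/-- A finite scheme all of whose tangent vectors are constant has as many points as its degree. -/
theorem finrank_eq_card_sections {Z : Scheme.{u}} (q : Z ⟶ Spec (CommRingCat.of K)) [IsFinite q]
    (h : ∀ t : Spec (CommRingCat.of (DualNumber K)) ⟶ Z, t ≫ q = dualStr K → t = dualStr K ≫ dualPt K ≫ t)
    (z : Spec (CommRingCat.of K)) :
    q.finrank z = Nat.card {p : Spec (CommRingCat.of K) ⟶ Z // p ≫ q = 𝟙 _} := by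
  haveI : IsAffine Z := isAffine_of_isAffineHom q
  let φ : CommRingCat.of K ⟶ Γ(Z, ⊤) := Spec.preimage (Z.isoSpec.inv ≫ q)
  have hφ : Spec.map φ = Z.isoSpec.inv ≫ q := Spec.map_preimage _
  haveI : IsFinite (Spec.map φ) := by rw [hφ]; infer_instance
  letI := φ.hom.toAlgebra
  haveI : Module.Finite K Γ(Z, ⊤) := ((IsFinite.SpecMap_iff φ).1 inferInstance : φ.hom.Finite)
  haveI : IsReduced Γ(Z, ⊤) := by
    refine isReduced_of_derivation (K := K) fun ψ b => ?_
    have e1 : ψ.toRingHom.comp φ.hom = algebraMap K (DualNumber K) := RingHom.ext ψ.commutes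
    let t := Spec.map (CommRingCat.ofHom ψ.toRingHom) ≫ Z.isoSpec.inv
    have ht : t ≫ q = dualStr K := by
      rw [Category.assoc, ← hφ, ← Spec.map_comp]
      exact congrArg Spec.map (CommRingCat.hom_ext e1)
    have h' := h t ht
    simp only [t, dualStr, dualPt, ← Spec.map_comp_assoc, cancel_mono, Category.assoc] at h'
    have := congrArg (fun g => CommRingCat.Hom.hom g b) (Spec.map_injective h')
    exact congrArg TrivSqZeroExt.snd this
  have hrank : q.finrank z = Module.finrank K Γ(Z, ⊤) := by
    haveI : Flat (Spec.map φ) := Flat.SpecMap_iff.2 (RingHom.flat_algebraMap_iff.2 inferInstance)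
    rw [← Scheme.Hom.finrank_comp_left_of_isIso Z.isoSpec.inv q, ← hφ]
    exact (Scheme.Hom.finrank_SpecMap_algebraMap K Γ(Z, ⊤) z).trans
      (congrFun (Module.rankAtStalk_eq_finrank_of_free (R := K) (M := Γ(Z, ⊤))) z)
  haveI : IsArtinianRing Γ(Z, ⊤) := IsArtinianRing.of_finite K _
  haveI : DiscreteTopology Z :=
    (Z.isoSpec.hom.homeomorph).discreteTopology_iff.2
      (inferInstanceAs (DiscreteTopology (PrimeSpectrum Γ(Z, ⊤))))
  rw [hrank, finrank_eq_card_of_isReduced, Nat.card_congr ((pointEquivClosedPoint q).trans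
    (Equiv.subtypeUnivEquiv fun z => mem_closedPoints_iff.2 (isClosed_discrete {z}))),
    Nat.card_congr Z.isoSpec.hom.homeomorph.toEquiv]
  rfl

end Groth.Agent.FinPts
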